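import Groth.Agent.Pi1.K260.D1Plan2
import Groth.Agent.Pi1.H383.PrincBC

/-!
# Restriction and twist of framed local solutions, restriction of comparisons

* `K784.D1Res.resTw : K260.D1.ResTw`;
* `K784.D1Res.resDel : K260.D1.ResDel`.
-/

set_option autoImplicit false
universe u

open CategoryTheory CategoryTheory.Limits AlgebraicGeometry

namespace K784.D1Res

open K260.D1 K260.Dif Groth.Agent.Pi1A.FEtAffine Groth.Agent.Pi1.H383.PrincBC

section Res

variable {G : Type} [Group G] {X Z W : Scheme.{u}} {j : X ⟶ Z} {w : W ⟶ X} {P₀ : FEt.Cat W} {ρ₀ : G →* Aut P₀}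
  {B M A : Scheme.{u}} {b : B ⟶ Z} {c : M ⟶ Z}

theorem kap_fst (m : M ⟶ B) (h : m ≫ b = c) : kap j m h ≫ pullback.fst j b = pullback.fst j c :=
  pullback.lift_fst _ _ _

theorem kap_snd (m : M ⟶ B) (h : m ≫ b = c) : kap j m h ≫ pullback.snd j b = pullback.snd j c ≫ m :=
  pullback.lift_snd _ _ _

/-- The base change of the cover. -/
noncomputable abbrev P1 (S : Sol j w P₀ ρ₀ b) (m : M ⟶ B) (h : m ≫ b = c) : FEt.Cat (pullback j c) :=
  (FEt.restrict (kap j m h)).obj S.P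

theorem proj_hom (S : Sol j w P₀ ρ₀ b) (m : M ⟶ B) (h : m ≫ b = c) :
    proj (kap j m h) S.P ≫ S.P.hom = (P1 S m h).hom ≫ kap j m h := (isPullback (kap j m h) S.P).w

theorem proj_fst (S : Sol j w P₀ ρ₀ b) (m : M ⟶ B) (h : m ≫ b = c) :
    proj (kap j m h) S.P ≫ S.P.hom ≫ pullback.fst j b = (P1 S m h).hom ≫ pullback.fst j c := by
  rw [← Category.assoc, proj_hom, Category.assoc, kap_fst]

theorem proj_snd (S : Sol j w P₀ ρ₀ b) (m : M ⟶ B) (h : m ≫ b = c) :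
    proj (kap j m h) S.P ≫ S.P.hom ≫ pullback.snd j b = (P1 S m h).hom ≫ pullback.snd j c ≫ m := by
  rw [← Category.assoc, proj_hom, Category.assoc, kap_snd]

/-- The map between the parts over `W`. -/
noncomputable def rr (S : Sol j w P₀ ρ₀ b) (m : M ⟶ B) (h : m ≫ b = c) :
    pullback ((P1 S m h).hom ≫ pullback.fst j c) w ⟶ pullback (S.P.hom ≫ pullback.fst j b) w :=
  pullback.lift (pullback.fst ((P1 S m h).hom ≫ pullback.fst j c) w ≫ proj (kap j m h) S.P)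
    (pullback.snd _ _) (by rw [Category.assoc, proj_fst, pullback.condition])

theorem lift_rr (S : Sol j w P₀ ρ₀ b) (m : M ⟶ B) (h : m ≫ b = c) (x : A ⟶ (P1 S m h).left) (y : A ⟶ W)
    (e : x ≫ (P1 S m h).hom ≫ pullback.fst j c = y ≫ w)
    (e' : (x ≫ proj (kap j m h) S.P) ≫ S.P.hom ≫ pullback.fst j b = y ≫ w) :
    pullback.lift x y e ≫ rr S m h = pullback.lift (x ≫ proj (kap j m h) S.P) y e' := by
  apply pullback.hom_ext
  · rw [Category.assoc, rr, pullback.lift_fst, pullback.lift_fst, pullback.lift_fst_assoc]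
  · rw [Category.assoc, rr, pullback.lift_snd, pullback.lift_snd, pullback.lift_snd]

theorem act_proj (S : Sol j w P₀ ρ₀ b) (m : M ⟶ B) (h : m ≫ b = c) (g : G) :
    (bcAction (kap j m h) S.ρ g).hom.left ≫ proj (kap j m h) S.P = proj (kap j m h) S.P ≫ (S.ρ g).hom.left := by
  rw [bcAction_hom]
  exact map_left_proj _ _

/-- Restriction of a local solution. -/
noncomputable def resSol (S : Sol j w P₀ ρ₀ b) (m : M ⟶ B) (h : m ≫ b = c) : Sol j w P₀ ρ₀ c where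
  P := P1 S m h
  ρ := bcAction (kap j m h) S.ρ
  prin := isPrincipal_bc (kap j m h) G S.P S.ρ S.prin
  θ := rr S m h ≫ S.θ
  θ_hom := by rw [Category.assoc, S.θ_hom, rr, pullback.lift_snd]
  θ_act := by
    intro g K _ _ x y e e'
    have e1 : (x ≫ proj (kap j m h) S.P) ≫ S.P.hom ≫ pullback.fst j b = y ≫ w := by
      rw [Category.assoc, proj_fst, e]
    have e2 : ((x ≫ proj (kap j m h) S.P) ≫ (S.ρ g).hom.left) ≫ S.P.hom ≫ pullback.fst j b = y ≫ w := by
      rw [Category.assoc, ← Category.assoc (S.ρ g).hom.left, act_hom, e1]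
    have e3 : ((x ≫ (bcAction (kap j m h) S.ρ g).hom.left) ≫ proj (kap j m h) S.P) ≫
        S.P.hom ≫ pullback.fst j b = y ≫ w := by
      rw [Category.assoc x, act_proj, ← Category.assoc x, e2]
    have e4 : (x ≫ (bcAction (kap j m h) S.ρ g).hom.left) ≫ proj (kap j m h) S.P =
        (x ≫ proj (kap j m h) S.P) ≫ (S.ρ g).hom.left := by
      rw [Category.assoc x, act_proj, ← Category.assoc x]
    have e5 : pullback.lift ((x ≫ (bcAction (kap j m h) S.ρ g).hom.left) ≫ proj (kap j m h) S.P) y e3 =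
        pullback.lift ((x ≫ proj (kap j m h) S.P) ≫ (S.ρ g).hom.left) y e2 := by
      congr 1
    have g1 := (Category.assoc _ _ _).symm.trans (congrArg (· ≫ S.θ) (lift_rr S m h _ y e' e3))
    have g2 : pullback.lift x y e ≫ (rr S m h ≫ S.θ) ≫ (ρ₀ g).hom.left =
        pullback.lift (x ≫ proj (kap j m h) S.P) y e1 ≫ S.θ ≫ (ρ₀ g).hom.left := by
      rw [Category.assoc (rr S m h), ← Category.assoc (pullback.lift x y e), lift_rr S m h x y e e1]
    exact g1.trans ((congrArg (· ≫ S.θ) e5).trans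
      ((S.θ_act g K (x ≫ proj (kap j m h) S.P) y e1 e2).trans g2.symm))

theorem isRes_resSol (S : Sol j w P₀ ρ₀ b) (m : M ⟶ B) (h : m ≫ b = c) :
    IsRes S (resSol S m h) m (proj (kap j m h) S.P) where
  comp := h
  snd := proj_snd S m h
  fst := proj_fst S m h
  act := act_proj S m h
  theta := by
    intro K _ _ x y f f'
    have h1 := lift_rr S m h x y f f'
    exact (Category.assoc _ _ _).symm.trans (congrArg (· ≫ S.θ) h1)

end Res

theorem resTw : K260.D1.ResTw.{u} := by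
  intro X Z W T j w t G _ _ P₀ ρ₀ B M b F m c hm k hk
  let S₁ : Sol j w P₀ ρ₀ c := resSol F.S m hm
  let σ₀ : XT j t c ⟶ S₁.P.left := pullback.lift (f := F.S.P.hom) (g := kap j m hm) (xmap j t m hm ≫ F.τ)
    (pullback.fst (pullback.snd j c) (pullback.snd t c)) (by
      apply pullback.hom_ext
      · refine ((Category.assoc _ _ _).trans (F.xmap_τ_fst m hm)).trans ?_
        rw [Category.assoc, kap_fst, xX]
      · refine ((Category.assoc _ _ _).trans (F.xmap_τ_snd m hm)).trans ?_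
        rw [Category.assoc, kap_snd, xB, Category.assoc])
  have h1 : σ₀ ≫ proj (kap j m hm) F.S.P = xmap j t m hm ≫ F.τ := pullback.lift_fst _ _ _
  have h2 : σ₀ ≫ S₁.P.hom = pullback.fst (pullback.snd j c) (pullback.snd t c) := pullback.lift_snd _ _ _
  obtain ⟨τ, h3, h4⟩ := exists_twist S₁.prin σ₀ (fun a => (k (xq j t c a))⁻¹)
    ((hk.comp_continuous (xq j t c).continuous).inv)
  refine ⟨⟨S₁, τ, h3.symm.trans h2⟩, proj (kap j m hm) F.S.P, isRes_resSol F.S m hm, ?_⟩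
  intro K _ _ x z l e e' f f'
  have e0 : (xp j t c x z l e e' ≫ σ₀) ≫ S₁.P.hom = (xp j t c x z l e e' ≫ τ) ≫ S₁.P.hom := by
    rw [Category.assoc, Category.assoc, h3]
  have e1 := eq_act S₁.prin (xp j t c x z l e e' ≫ σ₀) (xp j t c x z l e e' ≫ τ) e0
  have e2 : dif S₁.prin (xp j t c x z l e e' ≫ σ₀) (xp j t c x z l e e' ≫ τ) e0 default =
      (k (pullback.lift z l e' default))⁻¹ := by
    rw [dif_comp S₁.prin (xp j t c x z l e e') σ₀ τ h3 e0, h4, ← Scheme.Hom.comp_apply, xp_xq]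
  rw [e2] at e1
  have e3 : (S₁.ρ (k (pullback.lift z l e' default))⁻¹).hom.left ≫ proj (kap j m hm) F.S.P =
    proj (kap j m hm) F.S.P ≫ (F.S.ρ (k (pullback.lift z l e' default))⁻¹).hom.left :=
    act_proj F.S m hm _
  have e4 : (xp j t c x z l e e' ≫ σ₀) ≫ proj (kap j m hm) F.S.P =
      xp j t b x z (l ≫ m) f f' ≫ F.τ := by
    rw [Category.assoc, h1, ← Category.assoc, xp_xmap m hm x z l e e' f f']
  refine (congrArg (· ≫ proj (kap j m hm) F.S.P) e1).trans ?_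
  exact ((Category.assoc _ _ _).trans (congrArg ((xp j t c x z l e e' ≫ σ₀) ≫ ·) e3)).trans
    ((Category.assoc _ _ _).symm.trans
      (congrArg (· ≫ (F.S.ρ (k (pullback.lift z l e' default))⁻¹).hom.left) e4))

theorem resDel : K260.D1.ResDel.{u} := by
  intro X Z W j w G _ _ P₀ ρ₀ B B' M M' N b b' c c' S S' S₁ S₁' m m' r r' hr hr' n n' d q q' s s' δ hδ
  have c1 : ∀ {A : Scheme.{u}} {x : A ⟶ S₁.P.left} {l : A ⟶ N}, x ≫ S₁.P.hom ≫ pullback.snd j c = l ≫ n →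
      (x ≫ r) ≫ S.P.hom ≫ pullback.snd j b = l ≫ n ≫ m := by
    intro A x l h
    rw [Category.assoc, hr.snd, ← Category.assoc l, ← h]
    simp only [Category.assoc]
  have c2 : ∀ {A : Scheme.{u}} {x : A ⟶ S₁'.P.left} {l : A ⟶ N}, x ≫ S₁'.P.hom ≫ pullback.snd j c' = l ≫ n' →
      (x ≫ r') ≫ S'.P.hom ≫ pullback.snd j b' = l ≫ n' ≫ m' := by
    intro A x l h
    rw [Category.assoc, hr'.snd, ← Category.assoc l, ← h]
    simp only [Category.assoc]
  have c3 : ∀ {A : Scheme.{u}} {x : A ⟶ S₁.P.left} {x' : A ⟶ S₁'.P.left},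
      x ≫ S₁.P.hom ≫ pullback.fst j c = x' ≫ S₁'.P.hom ≫ pullback.fst j c' →
      (x ≫ r) ≫ S.P.hom ≫ pullback.fst j b = (x' ≫ r') ≫ S'.P.hom ≫ pullback.fst j b' := by
    intro A x x' h
    rw [Category.assoc, Category.assoc, hr.fst, hr'.fst, h]
  let dres : Dom S₁ S₁' n s n' s' ⟶ Dom S S' (n ≫ m) q (n' ≫ m') q' :=
    dp S S' (n ≫ m) q (n' ≫ m') q' (dX S₁ S₁' n s n' s' ≫ r) (dX' S₁ S₁' n s n' s' ≫ r')
      (dM S₁ S₁' n s n' s') (c1 (d_cond S₁ S₁' n s n' s')) (c2 (d_cond' S₁ S₁' n s n' s'))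
      (c3 (d_cond'' S₁ S₁' n s n' s'))
  have key : ∀ {A : Scheme.{u}} (x : A ⟶ S₁.P.left) (x' : A ⟶ S₁'.P.left) (l : A ⟶ N)
      (e : x ≫ S₁.P.hom ≫ pullback.snd j c = l ≫ n) (e' : x' ≫ S₁'.P.hom ≫ pullback.snd j c' = l ≫ n')
      (e'' : x ≫ S₁.P.hom ≫ pullback.fst j c = x' ≫ S₁'.P.hom ≫ pullback.fst j c'),
      dp S₁ S₁' n s n' s' x x' l e e' e'' ≫ dres =
        dp S S' (n ≫ m) q (n' ≫ m') q' (x ≫ r) (x' ≫ r') l (c1 e) (c2 e') (c3 e'') := by
    intro A x x' l e e' e''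
    have k1 : dp S₁ S₁' n s n' s' x x' l e e' e'' ≫ dX S₁ S₁' n s n' s' ≫ r = x ≫ r := by
      rw [← Category.assoc, dp_dX]
    have k2 : dp S₁ S₁' n s n' s' x x' l e e' e'' ≫ dX' S₁ S₁' n s n' s' ≫ r' = x' ≫ r' := by
      rw [← Category.assoc, dp_dX']
    have k3 : dp S₁ S₁' n s n' s' x x' l e e' e'' ≫ dM S₁ S₁' n s n' s' = l := dp_dM ..
    refine (comp_dp S S' (n ≫ m) q (n' ≫ m') q' _ _ _ _ _ _ _ (by rw [k1, k3]; exact c1 e)
      (by rw [k2, k3]; exact c2 e') (by rw [k1, k2]; exact c3 e'')).trans ?_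
    exact dp_congr S S' _ _ _ _ k1 k2 k3 _ _ _ _ _ _
  have key' : ∀ {A : Scheme.{u}} (a : A) (x : A ⟶ S₁.P.left) (x' : A ⟶ S₁'.P.left) (l : A ⟶ N)
      (e : x ≫ S₁.P.hom ≫ pullback.snd j c = l ≫ n) (e' : x' ≫ S₁'.P.hom ≫ pullback.snd j c' = l ≫ n')
      (e'' : x ≫ S₁.P.hom ≫ pullback.fst j c = x' ≫ S₁'.P.hom ≫ pullback.fst j c'),
      dres (dp S₁ S₁' n s n' s' x x' l e e' e'' a) =
        dp S S' (n ≫ m) q (n' ≫ m') q' (x ≫ r) (x' ≫ r') l (c1 e) (c2 e') (c3 e'') a := by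
    intro A a x x' l e e' e''
    rw [← Scheme.Hom.comp_apply, key]
  refine ⟨fun a => δ (dres a), ⟨hδ.lc.comp_continuous dres.continuous, ?_, ?_⟩, ?_⟩
  · intro K _ _ x x' l e e' e'' g g' f f' f''
    simp only [key']
    have a1 : (x ≫ (S₁.ρ g).hom.left) ≫ r = (x ≫ r) ≫ (S.ρ g).hom.left := by
      rw [Category.assoc, hr.act, Category.assoc]
    have a2 : (x' ≫ (S₁'.ρ g').hom.left) ≫ r' = (x' ≫ r') ≫ (S'.ρ g').hom.left := by
      rw [Category.assoc, hr'.act, Category.assoc]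
    rw [dp_congr S S' (n ≫ m) q (n' ≫ m') q' a1 a2 rfl (c1 f) (c2 f') (c3 f'') (by rw [← a1]; exact c1 f)
      (by rw [← a2]; exact c2 f') (by rw [← a1, ← a2]; exact c3 f'')]
    exact hδ.act K (x ≫ r) (x' ≫ r') l (c1 e) (c2 e') (c3 e'') g g' _ _ _
  · intro K _ _ x x' l e e' e'' y f f'
    simp only [key']
    have b1 : (x ≫ r) ≫ S.P.hom ≫ pullback.fst j b = y ≫ w := by rw [Category.assoc, hr.fst, f]
    have b2 : (x' ≫ r') ≫ S'.P.hom ≫ pullback.fst j b' = y ≫ w := by rw [Category.assoc, hr'.fst, f']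
    rw [hr'.theta K x' y f' b2, ← Category.assoc, hr.theta K x y f b1, Category.assoc]
    exact hδ.theta K (x ≫ r) (x' ≫ r') l (c1 e) (c2 e') (c3 e'') y b1 b2
  · intro K _ _ x x' l e e' e'' f f' f''
    simp only [key']

end K784.D1Res
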